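/-
Groups with the class sizes of `PSL(2,q)`: passage to the central quotient.
-/
import Cfsg.Agent.H25.Ito4

set_option autoImplicit false
set_option linter.style.haveILetI false

namespace Cfsg.Agent.CsL

open Subgroup Cfsg.Agent.H20 Cfsg.Agent.H21 Cfsg.Agent.H25

variable {G : Type*} [Group G] [Finite G]

/-- numerical set-up -/
structure Nm (q u w : ℕ) : Prop where
  qu : q.Coprime u
  qw : q.Coprime w
  uw : u.Coprime w
  q1 : 1 < q
  u1 : 1 < u
  w2 : 2 < w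

theorem nd {a b : ℕ} (h : a.Coprime b) (h1 : 1 < a) : ¬ a ∣ b := fun e => h1.ne' (h.eq_one_of_dvd e)

theorem nd2 {a b : ℕ} (h : a.Coprime b) (h1 : 2 < a) : ¬ a ∣ 2 * b := fun e =>
  absurd (Nat.le_of_dvd two_pos (h.dvd_of_dvd_mul_right e)) (by omega)

/-- the class sizes of `G` -/
structure CS (G : Type*) [Group G] (q u w : ℕ) : Prop extends Nm q u w where
  all : ∀ x : G, x ∉ center G → C₁⟦x⟧.index = u * w ∨ C₁⟦x⟧.index = q * w ∨ C₁⟦x⟧.index = q * u ∨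
    (2 ∣ w ∧ C₁⟦x⟧.index = 2 * (q * u))
  exa : ∃ x : G, C₁⟦x⟧.index = u * w
  exc : ∃ x : G, C₁⟦x⟧.index = q * w
  exb : ∃ x : G, C₁⟦x⟧.index = q * u

theorem ind_eq {x w y g : G} (hc : IsMulCommutative C₁⟦x⟧) (hm : MaxC x) (hw : w ∈ C₁⟦x⟧) (wZ : w ∉ center G)
    (yZ : y ∉ center G) (h : g * y * g⁻¹ ∈ C₁⟦w⟧) : C₁⟦y⟧.index = C₁⟦x⟧.index := by
  have k : ∀ w ∈ C₁⟦x⟧, w ∉ center G → C₁⟦w⟧ = C₁⟦x⟧ := fun w hw wZ =>
    hm w wZ fun a ha => mem_cent1.2 (comm_iff.1 hc a ha w hw)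
  rw [k w hw wZ] at h
  rw [← k _ h fun e => yZ (by simpa [mul_assoc] using (inferInstance : (center G).Normal).conj_mem _ e g⁻¹),
    H26.index_cent_conj]

theorem ind_eq1 {x y : G} (hc : IsMulCommutative C₁⟦x⟧) (hm : MaxC x) {r : ℕ} (hr : r.Prime)
    (h : r ∣ (center G).relIndex C₁⟦x⟧) (yZ : y ∉ center G) (hy : ¬ r ∣ C₁⟦y⟧.index) :
    C₁⟦y⟧.index = C₁⟦x⟧.index := by
  obtain ⟨w, hw, wZ, hwr⟩ := exists_elt_not_mem hr h
  obtain ⟨g, hg⟩ := exists_conj_mem_of_not_dvd hr hy hwr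
  refine ind_eq (g := g⁻¹) hc hm hw wZ yZ ?_
  rw [← conj_mem_cj (g := g), cj_cent1, mem_cent1_comm]
  simpa [mul_assoc] using hg

theorem ind_eq2 {x y : G} (hc : IsMulCommutative C₁⟦x⟧) (hm : MaxC x) {r : ℕ} (hr : r.Prime)
    (h : ¬ r ∣ C₁⟦x⟧.index) (yZ : y ∉ center G) (hy : r ∣ (center G).relIndex C₁⟦y⟧) :
    C₁⟦y⟧.index = C₁⟦x⟧.index := by
  obtain ⟨w, hw, wZ, hwr⟩ := exists_elt_not_mem hr hy
  obtain ⟨g, hg⟩ := exists_conj_mem_of_not_dvd hr h hwr
  refine ind_eq (g := g) hc hm hg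
    (fun e => wZ (by simpa [mul_assoc] using (inferInstance : (center G).Normal).conj_mem _ e g⁻¹)) yZ ?_
  rw [← cj_cent1, conj_mem_cj, mem_cent1_comm]
  exact hw

omit [Finite G] in
theorem rel_mul (x : G) : (center G).relIndex C₁⟦x⟧ * C₁⟦x⟧.index = (center G).index :=
  relIndex_mul_index fun z hz => mem_cent1.2 (mem_center_iff.1 hz x).symm

/-- an isolated Hall component of the prime graph -/
theorem iso {n m : ℕ} (hc : n.Coprime m) (hG : Nat.card G = n * m)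
    (h : ∀ x : G, x ≠ 1 → orderOf x ∣ n ∨ orderOf x ∣ m) {x : G} (x1 : x ≠ 1) (hx : orderOf x ∣ n) :
    ♯C₁⟦x⟧ ∣ n := by
  refine Nat.Coprime.dvd_of_dvd_mul_right (k := ♯C₁⟦x⟧) (n := m) ?_ (hG ▸ card_subgroup_dvd_card _)
  refine Nat.coprime_of_dvd fun s hs h1 h2 => ?_
  haveI := Fact.mk hs
  obtain ⟨y, hy⟩ := exists_prime_orderOf_dvd_card' s h1
  rw [← orderOf_coe] at hy
  have c : (orderOf x).Coprime (orderOf (y : G)) := hy ▸ (hc.coprime_dvd_left hx).coprime_dvd_right h2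
  have o := Commute.orderOf_mul_eq_mul_orderOf_of_coprime (mem_cent1.1 y.2).symm c
  have x2 : 1 < orderOf x := by
    have := orderOf_pos x
    have := mt orderOf_eq_one_iff.1 x1
    omega
  rcases h (x * y) (fun e => by
    rw [e, orderOf_one, hy] at o
    exact hs.one_lt.ne' (Nat.eq_one_of_mul_eq_one_left o.symm)) with e | e
  · exact nd (hc.symm.coprime_dvd_left h2) hs.one_lt ((hy ▸ o ▸ dvd_mul_left _ _ : s ∣ _).trans e)
  · exact nd (hc.coprime_dvd_left hx) x2 ((o ▸ dvd_mul_right _ _ : orderOf x ∣ _).trans e)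

/-- the orders of the element centralizers -/
structure Od (H : Type*) [Group H] (q u w : ℕ) : Prop extends Nm q u w where
  card : Nat.card H = q * u * w
  all : ∀ x : H, x ≠ 1 → ♯C₁⟦x⟧ = q ∨ ♯C₁⟦x⟧ = u ∨ ♯C₁⟦x⟧ = w ∨ 2 * ♯C₁⟦x⟧ = w

namespace CS

variable {q u w : ℕ} (h : CS G q u w)
include h

omit [Finite G] in
theorem nc {x : G} {a b : ℕ} (hx : C₁⟦x⟧.index = a * b) (ha : 1 < a) : x ∉ center G := fun e => by
  rw [H26.index_cent_eq_one_iff.2 e] at hx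
  exact ha.ne' (Nat.eq_one_of_mul_eq_one_right hx.symm)

theorem freeA {x : G} (hx : C₁⟦x⟧.index = u * w) : MinC x ∧ MaxC x := by
  refine ⟨fun y hy => eq_of_le_index hy ?_, fun y yZ hy => (eq_of_le_index hy ?_).symm⟩
  · have d := index_dvd_of_le hy
    rw [hx] at d ⊢
    rcases h.all y (not_mem_center_of_le hy (h.nc hx h.u1)) with e | e | e | ⟨-, e⟩ <;> rw [e] at d ⊢
    · exact (nd h.qu.symm h.u1 (h.uw.dvd_of_dvd_mul_right (Dvd.dvd.trans (dvd_mul_right _ _) d))).elim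
    · exact (nd (h.qw.mul_left h.uw).symm (by have := h.w2; omega) (Dvd.dvd.trans (dvd_mul_left _ _) d)).elim
    · exact (nd2 (h.qw.mul_left h.uw).symm h.w2 (Dvd.dvd.trans (dvd_mul_left _ _) d)).elim
  · have d := index_dvd_of_le hy
    rw [hx] at d ⊢
    have k := nd (h.qu.mul_right h.qw) h.q1
    rcases h.all y yZ with e | e | e | ⟨-, e⟩ <;> rw [e] at d ⊢
    · exact (k (Dvd.dvd.trans (dvd_mul_right _ _) d)).elim
    · exact (k (Dvd.dvd.trans (dvd_mul_right _ _) d)).elim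
    · exact (k (Dvd.dvd.trans ((dvd_mul_right _ _).mul_left _) d)).elim

theorem freeC {x : G} (hx : C₁⟦x⟧.index = q * w) : MinC x ∧ MaxC x := by
  refine ⟨fun y hy => eq_of_le_index hy ?_, fun y yZ hy => (eq_of_le_index hy ?_).symm⟩
  · have d := index_dvd_of_le hy
    rw [hx] at d ⊢
    rcases h.all y (not_mem_center_of_le hy (h.nc hx h.q1)) with e | e | e | ⟨-, e⟩ <;> rw [e] at d ⊢
    · exact (nd (h.qu.mul_right h.qw) h.q1 (Dvd.dvd.trans (dvd_mul_right _ _) d)).elim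
    · exact (nd (h.qw.mul_left h.uw).symm (by have := h.w2; omega) (Dvd.dvd.trans (dvd_mul_left _ _) d)).elim
    · exact (nd2 (h.qw.mul_left h.uw).symm h.w2 (Dvd.dvd.trans (dvd_mul_left _ _) d)).elim
  · have d := index_dvd_of_le hy
    rw [hx] at d ⊢
    have k := nd (h.qu.symm.mul_right h.uw) h.u1
    rcases h.all y yZ with e | e | e | ⟨-, e⟩ <;> rw [e] at d ⊢
    · exact (k (Dvd.dvd.trans (dvd_mul_right _ _) d)).elim
    · exact (k (Dvd.dvd.trans (dvd_mul_left _ _) d)).elim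
    · exact (k (Dvd.dvd.trans ((dvd_mul_left _ _).mul_left _) d)).elim

theorem index_center : (center G).index = q * u * w := by
  obtain ⟨a, ha⟩ := h.exa
  obtain ⟨c, hc⟩ := h.exc
  obtain ⟨b, hb⟩ := h.exb
  have ra := rel_mul a
  have rc := rel_mul c
  have rb := rel_mul b
  rw [ha] at ra; rw [hc] at rc; rw [hb] at rb
  obtain ⟨k, hk⟩ : q * u * w ∣ (center G).index := (h.qw.mul_left h.uw).mul_dvd_of_dvd_of_dvd
    (Dvd.intro_left _ rb) ((dvd_mul_left _ _).trans (Dvd.intro_left _ ra))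
  have q0 : 0 < q := by have := h.q1; omega
  have u0 : 0 < u := by have := h.u1; omega
  have w0 : 0 < w := by have := h.w2; omega
  have sa : (center G).relIndex C₁⟦a⟧ = q * k := Nat.eq_of_mul_eq_mul_right (Nat.mul_pos u0 w0) (by
    rw [ra, hk]; ring)
  have sc : (center G).relIndex C₁⟦c⟧ = u * k := Nat.eq_of_mul_eq_mul_right (Nat.mul_pos q0 w0) (by
    rw [rc, hk]; ring)
  have aZ := h.nc ha h.u1
  have cZ := h.nc hc h.q1
  have bZ := h.nc hb h.q1
  by_contra hn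
  obtain ⟨r, hr, hd⟩ := Nat.exists_prime_and_dvd (n := k) (by rintro rfl; exact hn (by rw [hk, mul_one]))
  have ac : C₁⟦a⟧.index ≠ C₁⟦c⟧.index := fun e => by
    rw [ha, hc] at e
    exact nd h.qu h.q1 (Nat.eq_of_mul_eq_mul_right w0 e).symm.dvd
  obtain ⟨x, xc, xm, xr⟩ : ∃ x : G, IsMulCommutative C₁⟦x⟧ ∧ MaxC x ∧ r ∣ (center G).relIndex C₁⟦x⟧ := by
    rcases free_cases aZ (h.freeA ha).1 (h.freeA ha).2 with e | ⟨p, -, e⟩
    · exact ⟨a, e, (h.freeA ha).2, sa ▸ hd.mul_left _⟩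
    rcases free_cases cZ (h.freeC hc).1 (h.freeC hc).2 with e' | ⟨p', -, e'⟩
    · exact ⟨c, e', (h.freeC hc).2, sc ▸ hd.mul_left _⟩
    rw [sa] at e; rw [sc] at e'
    obtain ⟨s, hs, d⟩ := Nat.exists_prime_and_dvd h.q1.ne'
    obtain ⟨s', hs', d'⟩ := Nat.exists_prime_and_dvd h.u1.ne'
    have e1 : s = s' := ((e s hs (d.mul_right _)).trans (e r hr (hd.mul_left _)).symm).trans
      ((e' r hr (hd.mul_left _)).trans (e' s' hs' (d'.mul_right _)).symm)
    exact (hs.one_lt.ne' (Nat.eq_one_of_dvd_coprimes h.qu d (e1 ▸ d'))).elim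
  have key : ∀ y : G, y ∉ center G → r ∣ C₁⟦y⟧.index := fun y yZ => by
    by_contra e
    rw [ind_eq1 xc xm hr xr yZ e] at e
    exact ac ((ind_eq2 xc xm hr e aZ (sa ▸ hd.mul_left _)).trans (ind_eq2 xc xm hr e cZ (sc ▸ hd.mul_left _)).symm)
  have k1 := key a aZ
  have k2 := key c cZ
  have k3 := key b bZ
  rw [ha] at k1; rw [hc] at k2; rw [hb] at k3
  rcases hr.dvd_mul.1 k3 with e | e
  · exact hr.one_lt.ne' (Nat.eq_one_of_dvd_coprimes (h.qu.mul_right h.qw) e k1)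
  · exact hr.one_lt.ne' (Nat.eq_one_of_dvd_coprimes (h.qu.symm.mul_right h.uw) e k2)

/-- the image of a centralizer in the central quotient -/
theorem rel {x : G} (hx : x ∉ center G) : ∃ n, ♯(C₁⟦x⟧.map (QuotientGroup.mk' (center G))) = n ∧
    (n = q ∨ n = u ∨ n = w ∨ 2 * n = w) ∧ n * C₁⟦x⟧.index = q * u * w := by
  have r := rel_mul x
  rw [h.index_center] at r
  refine ⟨_, by rw [← relIndex_ker, QuotientGroup.ker_mk'], ?_, r⟩
  have q0 : 0 < q := by have := h.q1; omega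
  have u0 : 0 < u := by have := h.u1; omega
  have w0 : 0 < w := by have := h.w2; omega
  rcases h.all x hx with e | e | e | ⟨-, e⟩ <;> rw [e] at r
  · exact .inl (Nat.eq_of_mul_eq_mul_right (Nat.mul_pos u0 w0) (by rw [r]; ring))
  · exact .inr (.inl (Nat.eq_of_mul_eq_mul_right (Nat.mul_pos q0 w0) (by rw [r]; ring)))
  · exact .inr (.inr (.inl (Nat.eq_of_mul_eq_mul_right (Nat.mul_pos q0 u0) (by rw [r]; ring))))
  · exact .inr (.inr (.inr (Nat.eq_of_mul_eq_mul_right (Nat.mul_pos q0 u0) (by linarith))))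

omit h [Finite G] in
theorem map_le (x : G) : C₁⟦x⟧.map (QuotientGroup.mk' (center G)) ≤ C₁⟦(x : G ⧸ center G)⟧ := by
  rintro _ ⟨y, hy, rfl⟩
  exact mem_cent1.2 (congrArg (QuotientGroup.mk' (center G)) (mem_cent1.1 hy))

theorem good {x : G} (hx : x ∉ center G) :
    C₁⟦x⟧.map (QuotientGroup.mk' (center G)) = C₁⟦(x : G ⧸ center G)⟧ ∨
      (2 ∣ w ∧ ♯C₁⟦(x : G ⧸ center G)⟧ = w) := by
  have hc : Nat.card (G ⧸ center G) = q * u * w := h.index_center
  have o : ∀ x : G, x ∉ center G →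
      orderOf (x : G ⧸ center G) ∣ ♯(C₁⟦x⟧.map (QuotientGroup.mk' (center G))) := fun x _ =>
    orderOf_dvd_natCard _ (mem_map_of_mem _ (mem_cent1.2 rfl))
  have o3 : ∀ y : G ⧸ center G, y ≠ 1 → orderOf y ∣ q ∨ orderOf y ∣ u ∨ orderOf y ∣ w := fun y y1 => by
    obtain ⟨y, rfl⟩ := QuotientGroup.mk_surjective y
    have yZ := mt (QuotientGroup.eq_one_iff y).2 y1
    obtain ⟨n, e, e', -⟩ := h.rel yZ
    have := e ▸ o y yZ
    rcases e' with rfl | rfl | rfl | rfl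
    exacts [.inl this, .inr (.inl this), .inr (.inr this), .inr (.inr (this.mul_left _))]
  have x1 := mt (QuotientGroup.eq_one_iff x).1 hx
  obtain ⟨n, e, e', -⟩ := h.rel hx
  have ox := e ▸ o x hx
  have k : ♯C₁⟦(x : G ⧸ center G)⟧ ∣ n → _ := fun d => eq_of_le_of_card_ge (map_le x)
    (e ▸ Nat.le_of_dvd (e ▸ Nat.card_pos) d)
  have iw : orderOf (x : G ⧸ center G) ∣ w → _ := iso (m := q * u) (h.qw.mul_left h.uw).symm (by rw [hc]; ring)
    (fun y y1 => by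
      rcases o3 y y1 with e | e | e
      exacts [.inr (e.mul_right _), .inr (e.mul_left _), .inl e]) x1
  rcases e' with rfl | rfl | rfl | e'
  · exact .inl (k (iso (h.qu.mul_right h.qw) (by rw [hc]; ring) (fun y y1 => by
      rcases o3 y y1 with e | e | e
      exacts [.inl e, .inr (e.mul_right _), .inr (e.mul_left _)]) x1 ox))
  · exact .inl (k (iso (h.qu.symm.mul_right h.uw) (by rw [hc]; ring) (fun y y1 => by
      rcases o3 y y1 with e | e | e
      exacts [.inr (e.mul_right _), .inl e, .inr (e.mul_left _)]) x1 ox))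
  · exact .inl (k (iw ox))
  · obtain ⟨j, hj⟩ := e ▸ card_dvd_of_le (map_le x)
    have d := iw (e' ▸ ox.mul_left _)
    rw [hj, ← e', mul_comm 2, Nat.mul_dvd_mul_iff_left (e ▸ Nat.card_pos)] at d
    rcases (Nat.dvd_prime Nat.prime_two).1 d with rfl | rfl
    · exact .inl (k (by rw [hj, mul_one]))
    · exact .inr ⟨Dvd.intro _ e', by rw [hj, ← e', mul_comm]⟩

theorem od : Od (G ⧸ center G) q u w := by
  refine ⟨h.toNm, h.index_center, fun y y1 => ?_⟩
  obtain ⟨y, rfl⟩ := QuotientGroup.mk_surjective y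
  have yZ := mt (QuotientGroup.eq_one_iff y).2 y1
  rcases h.good yZ with e | ⟨-, e⟩
  · obtain ⟨n, e1, e2, -⟩ := h.rel yZ
    rwa [← e, e1]
  · exact .inr (.inr (.inl e))

end CS

end Cfsg.Agent.CsL
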