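/-
Groups with the centralizer orders of `PSL(2,q)`: a partition into nilpotent subgroups.
-/
import Cfsg.Agent.CsL.A
import Cfsg.Agent.H25.Part2

set_option autoImplicit false
set_option linter.style.haveILetI false

namespace Cfsg.Agent.CsL

open Subgroup Cfsg.Agent.H20 Cfsg.Agent.H21 Cfsg.Agent.H25
open scoped MatrixGroups

variable {G : Type*} [Group G] [Finite G]

/-- order `w` or `w / 2` -/
def Pw (w : ℕ) (X : Subgroup G) : Prop := ♯X = w ∨ 2 * ♯X = w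

theorem Pw.mem {w : ℕ} {X Y : Subgroup G} (hX : Pw w X) (hY : Pw w Y) (h : X ≤ Y) {g : G} (hg : g ∈ Y)
    (ho : IsPiElt {2}ᶜ g) : g ∈ X := by
  have e := card_mul_relIndex h
  have x0 : 0 < ♯X := Nat.card_pos
  have y0 : 0 < ♯Y := Nat.card_pos
  have : X.relIndex Y ≤ 2 := Nat.le_of_mul_le_mul_left (c := ♯X) (by
    rcases hX with hX | hX <;> rcases hY with hY | hY <;> omega) x0
  rcases (show X.relIndex Y = 0 ∨ X.relIndex Y = 1 ∨ X.relIndex Y = 2 by omega) with k | k | k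
  · rw [k] at e; omega
  · exact relIndex_eq_one.1 k hg
  · exact mem_of_pow_coprime' (n := 2) (sq_mem_of_index_two k ⟨g, hg⟩)
      ((Nat.prime_two.coprime_iff_not_dvd.2 fun d => ho 2 Nat.prime_two d rfl).symm)

theorem Pw.dvd {w s : ℕ} {X : Subgroup G} (hX : Pw w X) (hs : s ∣ w) (h : s.Coprime 2) : s ∣ ♯X :=
  hX.elim (fun e => e ▸ hs) fun e => h.dvd_of_dvd_mul_left (e ▸ hs)

theorem two_dvd_orderOf {t : G} (t1 : t ≠ 1) (ht : IsPiElt {2} t) : 2 ∣ orderOf t := by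
  obtain ⟨s, hs, d⟩ := Nat.exists_prime_and_dvd (mt orderOf_eq_one_iff.1 t1)
  exact (ht s hs d : s = 2) ▸ d

namespace Od

variable {q u w : ℕ} (h : Od G q u w)
include h

theorem pw {x : G} (x1 : x ≠ 1) {s : ℕ} (hs : s.Prime) (d : s ∣ w) (d' : s ∣ ♯C₁⟦x⟧) : Pw w C₁⟦x⟧ := by
  rcases h.all x x1 with e | e | e
  · exact (hs.one_lt.ne' (Nat.eq_one_of_dvd_coprimes h.qw (e ▸ d') d)).elim
  · exact (hs.one_lt.ne' (Nat.eq_one_of_dvd_coprimes h.uw (e ▸ d') d)).elim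
  · exact e

theorem no_abelian (h1 : q ≤ u * w) (h2 : u ≤ q * w) (h3 : w ≤ q * u) (A : Subgroup G) (hA : A.Normal)
    (hc : IsMulCommutative A) : A = ⊥ := by
  by_contra e
  obtain ⟨a, ha, a1⟩ := exists_ne_one e
  have k1 : ♯A ≤ ♯C₁⟦a⟧ := card_le_of_le fun b hb => mem_cent1.2 (comm_iff.1 hc b hb a ha)
  have k2 : C₁⟦a⟧.index < ♯A := by
    rw [H26.index_cent_eq_ncard]
    refine Set.ncard_lt_ncard (t := (A : Set G)) ⟨fun z hz => ?_, fun e => a1 ?_⟩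
    · obtain ⟨c, rfl⟩ := isConj_iff.1 hz
      exact hA.conj_mem _ ha c
    · exact isConj_one_left.1 (e (one_mem A))
  have k3 := C₁⟦a⟧.card_mul_index
  rw [h.card] at k3
  have q0 : 0 < q := by have := h.q1; omega
  have u0 : 0 < u := by have := h.u1; omega
  have w0 : 0 < w := by have := h.w2; omega
  rcases h.all a a1 with e | e | e | e
  · have : C₁⟦a⟧.index = u * w := Nat.eq_of_mul_eq_mul_left q0 (by rw [← e, k3, e]; ring)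
    omega
  · have : C₁⟦a⟧.index = q * w := Nat.eq_of_mul_eq_mul_left u0 (by rw [← e, k3, e]; ring)
    omega
  · have : C₁⟦a⟧.index = q * u := Nat.eq_of_mul_eq_mul_left w0 (by rw [← e, k3, e]; ring)
    omega
  · have : C₁⟦a⟧.index = 2 * (q * u) := Nat.eq_of_mul_eq_mul_left (Nat.card_pos (α := C₁⟦a⟧)) (by
      rw [k3, ← e]; ring)
    omega

theorem cent_eq {x g : G} (x1 : x ≠ 1) (hx : ¬ Pw w C₁⟦x⟧) (g1 : g ≠ 1) (hg : C₁⟦x⟧ ≤ C₁⟦g⟧) :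
    C₁⟦g⟧ = C₁⟦x⟧ := by
  have d := card_dvd_of_le hg
  refine (eq_of_le_of_card_ge hg ?_).symm
  rcases h.all x x1 with e | e | e
  · rw [e] at d ⊢
    rcases h.all g g1 with k | k | k | k
    · exact k.le
    · exact (nd h.qu h.q1 (k ▸ d)).elim
    · exact (nd h.qw h.q1 (k ▸ d)).elim
    · exact (nd h.qw h.q1 (k ▸ d.mul_left _)).elim
  · rw [e] at d ⊢
    rcases h.all g g1 with k | k | k | k
    · exact (nd h.qu.symm h.u1 (k ▸ d)).elim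
    · exact k.le
    · exact (nd h.uw h.u1 (k ▸ d)).elim
    · exact (nd h.uw h.u1 (k ▸ d.mul_left _)).elim
  · exact (hx e).elim

variable (w4 : 4 ∣ w)
include w4

theorem pw_two {t x : G} (t1 : t ≠ 1) (ht : IsPiElt {2} t) (x1 : x ≠ 1) (hx : t ∈ C₁⟦x⟧) : Pw w C₁⟦x⟧ :=
  h.pw x1 Nat.prime_two (Dvd.dvd.trans (by norm_num) w4) ((two_dvd_orderOf t1 ht).trans (orderOf_dvd_natCard _ hx))

theorem pw_inf {t a : G} (t1 : t ≠ 1) (ht : IsPiElt {2} t) (ha : IsPiElt {2}ᶜ a) (hc : a ∈ C₁⟦t⟧) :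
    Pw w (C₁⟦t⟧ ⊓ C₁⟦a⟧) := by
  have e := cent1_mul ht ha hc
  rw [← e]
  refine h.pw_two w4 t1 ht (fun k => ?_) (e ▸ ⟨mem_cent1.2 rfl, mem_cent1_comm.1 hc⟩)
  rw [eq_inv_of_mul_eq_one_right k] at ha
  exact ha 2 Nat.prime_two (orderOf_inv t ▸ two_dvd_orderOf t1 ht) rfl

theorem o1 {t a b : G} (t1 : t ≠ 1) (ht : IsPiElt {2} t) (ha : IsPiElt {2}ᶜ a) (hb : IsPiElt {2}ᶜ b)
    (h1 : a ∈ C₁⟦t⟧) (h2 : b ∈ C₁⟦t⟧) : b ∈ C₁⟦a⟧ :=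
  ((h.pw_inf w4 t1 ht ha h1).mem (h.pw_two w4 t1 ht t1 (mem_cent1.2 rfl)) inf_le_left h2 hb).2

theorem o2 {t a b : G} (ht : IsPiElt {2} t) (ha : IsPiElt {2}ᶜ a) (hb : IsPiElt {2}ᶜ b) (hp : Pw w C₁⟦a⟧)
    (h1 : t ∈ C₁⟦a⟧) (h2 : b ∈ C₁⟦a⟧) : b ∈ C₁⟦t⟧ := by
  by_cases t1 : t = 1
  · rw [t1, mem_cent1, mul_one, one_mul]
  exact ((h.pw_inf w4 t1 ht ha (mem_cent1_comm.1 h1)).mem hp inf_le_right h2 hb).1

theorem o3 {a b : G} (ha : IsPiElt {2}ᶜ a) (hb : IsPiElt {2}ᶜ b) (hp : Pw w C₁⟦a⟧) (h2 : b ∈ C₁⟦a⟧) :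
    C₁⟦a⟧ ≤ C₁⟦b⟧ := fun g hg => by
  obtain ⟨x, y, hx, hy, x2, y2, -, e⟩ := exists_decomp {2} g
  have hx' := zpowers_le.2 hg hx
  have hy' := zpowers_le.2 hg hy
  obtain ⟨t, ht⟩ := exists_prime_orderOf_dvd_card' (G := C₁⟦a⟧) 2 (by rcases hp with k | k <;> omega)
  rw [← orderOf_coe] at ht
  have t2 := elt_of_orderOf Nat.prime_two ht
  exact e ▸ mul_mem (mem_cent1_comm.1 (h.o2 w4 x2 ha hb hp hx' h2)) (h.o1 w4
    (ne_one_of_orderOf Nat.prime_two ht) t2 hb y2 (h.o2 w4 t2 ha hb hp t.2 h2) (h.o2 w4 t2 ha y2 hp t.2 hy'))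

theorem o4 {x a b : G} (hp : Pw w C₁⟦x⟧) (ha : IsPiElt {2}ᶜ a) (hb : IsPiElt {2}ᶜ b) (h1 : a ∈ C₁⟦x⟧)
    (h2 : b ∈ C₁⟦x⟧) : b ∈ C₁⟦a⟧ := by
  obtain ⟨t, y, ht, -, t2, y2, -, e⟩ := exists_decomp {2} x
  by_cases t1 : t = 1
  · rw [t1, one_mul] at e
    exact h.o3 w4 (e ▸ y2) ha hp h1 h2
  · exact h.o1 w4 t1 t2 ha hb (H26.cent_le_cent_of_mem_zpowers ht h1) (H26.cent_le_cent_of_mem_zpowers ht h2)

theorem nil {a : G} (ha : IsPiElt {2}ᶜ a) (hp : Pw w C₁⟦a⟧) : Group.IsNilpotent C₁⟦a⟧ := by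
  refine of_quotient_center_nilpotent (IsPGroup.isNilpotent (p := 2) fun g => ?_)
  obtain ⟨g, rfl⟩ := QuotientGroup.mk_surjective g
  obtain ⟨x, y, -, hy, x2, y2, c, e⟩ := exists_decomp {2} (g : G)
  obtain ⟨k, hk⟩ := pgroup_zpowers x2 ⟨x, mem_zpowers x⟩
  refine ⟨k, ?_⟩
  rw [← QuotientGroup.mk_pow, QuotientGroup.eq_one_iff, mem_center_coe, coe_pow, e,
    Commute.mul_pow (mem_cent1.1 c).symm, show x ^ 2 ^ k = 1 from congrArg Subtype.val hk, one_mul]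
  exact pow_mem (le_cent1_iff.1 (h.o3 w4 ha y2 hp (zpowers_le.2 g.2 hy))) _

theorem part {s : ℕ} (hs : s.Prime) (s2 : s ≠ 2) (d : s ∣ w) :
    ∃ D : G → Subgroup G, Part D ∧ ∀ x, x ≠ 1 → Group.IsNilpotent (D x) := by
  haveI := Fact.mk hs
  have so : ∀ {a : G}, orderOf a = s → IsPiElt {2}ᶜ a := fun ha => elt_ne (elt_of_orderOf hs ha) s2
  have f2 : ∀ {a g : G}, orderOf a = s → g ∈ C₁⟦a⟧ → g ≠ 1 → Pw w C₁⟦g⟧ := fun ha hg g1 =>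
    h.pw g1 hs d (ha ▸ orderOf_dvd_natCard _ (mem_cent1_comm.1 hg))
  have pa : ∀ {a : G}, orderOf a = s → Pw w C₁⟦a⟧ := fun ha => f2 ha (mem_cent1.2 rfl) (ne_one_of_orderOf hs ha)
  have sf : ∀ x : G, x ∈ C⟦C₁⟦x⟧⟧ := fun x => le_cent1_iff.1 le_rfl
  obtain ⟨D, hD, hle⟩ := exists_part {D | (∃ x : G, x ≠ 1 ∧ ¬ Pw w C₁⟦x⟧ ∧ D = C⟦C₁⟦x⟧⟧) ∨
    ∃ a : G, orderOf a = s ∧ D = C₁⟦a⟧} (by
      obtain ⟨a, ha⟩ := exists_prime_orderOf_dvd_card' (G := G) s (h.card ▸ d.mul_left _)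
      obtain ⟨p, hp, d'⟩ := Nat.exists_prime_and_dvd h.q1.ne'
      haveI := Fact.mk hp
      obtain ⟨x, hx⟩ := exists_prime_orderOf_dvd_card' (G := G) p (h.card ▸ (d'.mul_right _).mul_right _)
      have x1 := ne_one_of_orderOf hp hx
      have px : p ∣ ♯C₁⟦x⟧ := hx ▸ orderOf_dvd_natCard _ (mem_cent1.2 rfl)
      have nx : ¬ Pw w C₁⟦x⟧ := fun e => hp.one_lt.ne' (Nat.eq_one_of_dvd_coprimes h.qw d'
        (e.elim (fun e => e ▸ px) fun e => e ▸ px.mul_left _))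
      exact ⟨_, .inl ⟨x, x1, nx, rfl⟩, _, .inr ⟨a, ha, rfl⟩, fun e => nx (f2 ha (e ▸ sf x) x1)⟩)
    (by
      rintro _ (⟨x, x1, -, rfl⟩ | ⟨a, ha, rfl⟩) e
      · exact x1 (e.le (sf x))
      · exact ne_one_of_orderOf hs ha (e.le (mem_cent1.2 rfl)))
    fun g g1 => by
      by_cases hg : Pw w C₁⟦g⟧
      · obtain ⟨a, ha⟩ := exists_prime_orderOf_dvd_card' s (hg.dvd d ((Nat.coprime_primes hs Nat.prime_two).2 s2))
        rw [← orderOf_coe] at ha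
        refine ⟨_, ⟨.inr ⟨a, ha, rfl⟩, mem_cent1_comm.1 a.2⟩, ?_⟩
        rintro _ ⟨⟨x, x1, nx, rfl⟩ | ⟨b, hb, rfl⟩, k⟩
        · exact (nx (h.cent_eq x1 nx g1 (le_cent1_iff.2 k) ▸ hg)).elim
        · have := h.o4 w4 hg (so ha) (so hb) a.2 (mem_cent1_comm.1 k)
          exact le_antisymm (h.o3 w4 (so hb) (so ha) (pa hb) (mem_cent1_comm.1 this))
            (h.o3 w4 (so ha) (so hb) (pa ha) this)
      · refine ⟨_, ⟨.inl ⟨g, g1, hg, rfl⟩, sf g⟩, ?_⟩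
        rintro _ ⟨⟨x, x1, nx, rfl⟩ | ⟨b, hb, rfl⟩, k⟩
        · rw [h.cent_eq x1 nx g1 (le_cent1_iff.2 k)]
        · exact (hg (f2 hb k g1)).elim
  refine ⟨D, hD, fun x x1 => ?_⟩
  obtain ⟨_, ⟨y, -, -, rfl⟩ | ⟨a, ha, rfl⟩, e⟩ := hle x x1
  · exact nil_of_le (nil_of_comm (comm_iff_le_cent.2 (cent_anti fun z hz =>
      mem_cent1_comm.1 (le_cent1_iff.2 hz (mem_cent1.2 rfl))))) e
  · exact nil_of_le (h.nil w4 (so ha) (pa ha)) e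

end Od

end Cfsg.Agent.CsL
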